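import Groth.Agent.Lib.FanoLines13.Expand

/-! # Singular points and expansions -/

set_option autoImplicit false
set_option linter.style.haveILetI false
universe u

open MvPolynomial

noncomputable section

namespace Groth.Agent.Disc13

open Groth.Agent.FanoSeq13 Groth.Agent.FanoLines13

variable {R : Type u} [CommRing R]

/-- The chain rule for substitutions. -/
theorem pderiv_aeval {σ τ : Type} [Fintype σ] (g : σ → MvPolynomial τ R) (q : τ) (P : MvPolynomial σ R) :
    pderiv q (aeval g P) = ∑ p, aeval g (pderiv p P) * pderiv q (g p) := by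
  classical
  induction P using MvPolynomial.induction_on with
  | C a => simp [MvPolynomial.algebraMap_eq]
  | add f f' hf hf' => simp only [map_add, hf, hf', add_mul, Finset.sum_add_distrib]
  | mul_X f p hf =>
    simp only [map_mul, aeval_X, Derivation.leibniz, smul_eq_mul, map_add, hf, add_mul, Finset.sum_add_distrib,
      Finset.mul_sum]
    refine congrArg₂ (· + ·) ?_ (Finset.sum_congr rfl fun i _ => by ring)
    rw [Finset.sum_eq_single p (fun i _ hne => by simp [Ne.symm hne]) (by simp)]
    simp

/-- The derivative along a line. -/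
theorem derivative_aeval {σ : Type} [Fintype σ] (g : σ → Polynomial R) (P : MvPolynomial σ R) :
    Polynomial.derivative (aeval g P) = ∑ p, aeval g (pderiv p P) * Polynomial.derivative (g p) := by
  classical
  induction P using MvPolynomial.induction_on with
  | C a => simp [Polynomial.algebraMap_eq]
  | add f f' hf hf' => simp only [map_add, hf, hf', add_mul, Finset.sum_add_distrib]
  | mul_X f p hf =>
    simp only [map_mul, aeval_X, Polynomial.derivative_mul, Derivation.leibniz, smul_eq_mul, map_add, hf, add_mul,
      Finset.sum_add_distrib, Finset.sum_mul]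
    rw [add_comm]
    refine congrArg₂ (· + ·) ?_ (Finset.sum_congr rfl fun i _ => by ring)
    rw [Finset.sum_eq_single p (fun i _ hne => by simp [Ne.symm hne]) (by simp)]
    simp

/-- The line through `v` with direction `y`. -/
def line {σ : Type} (v y : σ → R) (p : σ) : Polynomial R := Polynomial.C (v p) + Polynomial.C (y p) * Polynomial.X

theorem eval_line {σ : Type} (v y : σ → R) (c : R) (P : MvPolynomial σ R) :
    Polynomial.eval c (aeval (line v y) P) = eval (fun p => v p + y p * c) P := by
  induction P using MvPolynomial.induction_on with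
  | C a => simp [Polynomial.algebraMap_eq]
  | add f f' hf hf' => simp only [map_add, Polynomial.eval_add, hf, hf']
  | mul_X f p hf => simp [hf, line]

theorem derivative_line_zero {σ : Type} [Fintype σ] (v y : σ → R) (P : MvPolynomial σ R) :
    Polynomial.eval 0 (Polynomial.derivative (aeval (line v y) P)) = ∑ p, y p * eval v (pderiv p P) := by
  rw [derivative_aeval, Polynomial.eval_finsetSum]
  refine Finset.sum_congr rfl fun p _ => ?_
  rw [Polynomial.eval_mul, eval_line]
  simp [line]
  ring

/-- `P` is singular at `v`. -/
def SingAt {σ : Type} (v : σ → R) (P : MvPolynomial σ R) : Prop :=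
  eval v P = 0 ∧ ∀ q, eval v (pderiv q P) = 0

theorem singAt_iff {σ : Type} [Fintype σ] (v : σ → R) (P : MvPolynomial σ R) :
    SingAt v P ↔ eval v P = 0 ∧ ∀ y, Polynomial.eval 0 (Polynomial.derivative (aeval (line v y) P)) = 0 := by
  classical
  refine and_congr_right fun _ => ⟨fun h y => ?_, fun h q => ?_⟩
  · rw [derivative_line_zero]
    exact Finset.sum_eq_zero fun p _ => by rw [h p, mul_zero]
  · have := h (Pi.single q 1)
    rw [derivative_line_zero, Finset.sum_eq_single q (fun p _ hne => by simp [hne]) (by simp)] at this
    simpa using this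

/-- Singular points are preserved by substitution. -/
theorem SingAt.aeval {σ τ : Type} [Fintype σ] (g : σ → MvPolynomial τ R) (w : τ → R) {P : MvPolynomial σ R}
    (h : SingAt (fun p => eval w (g p)) P) : SingAt w (MvPolynomial.aeval g P) := by
  have e : ∀ Q, eval w (MvPolynomial.aeval g Q) = eval (fun p => eval w (g p)) Q := fun Q => by
    show (eval w) (MvPolynomial.aeval g Q) = _
    induction Q using MvPolynomial.induction_on with
    | C a => simp [MvPolynomial.algebraMap_eq]
    | add f f' hf hf' => simp only [map_add, hf, hf']
    | mul_X f p hf => rw [map_mul, map_mul, map_mul, hf, aeval_X, eval_X]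
  refine ⟨(e _).trans h.1, fun q => ?_⟩
  rw [pderiv_aeval, map_sum]
  exact Finset.sum_eq_zero fun p _ => by rw [map_mul, e, h.2, zero_mul]

theorem SingAt.map {S : Type u} [CommRing S] {σ : Type} (f : R →+* S) {v : σ → R} {P : MvPolynomial σ R}
    (h : SingAt v P) : SingAt (fun p => f (v p)) (MvPolynomial.map f P) := by
  have e : ∀ Q : MvPolynomial σ R, eval (fun p => f (v p)) (MvPolynomial.map f Q) = f (eval v Q) := fun Q => by
    rw [eval_map]
    exact (eval₂_comp f v Q).symm
  exact ⟨by rw [e, h.1, map_zero], fun q => by rw [pderiv_map, e, h.2, map_zero]⟩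

variable {m d : ℕ} (i₀ : Fin (m + 2))

/-- Coefficients of expansions with a singular base point. -/
abbrev Sing (m d : ℕ) : Type := {v : Idx m d // 1 ≤ v.1.1}

/-- Extension by zero. -/
def ext0 (c : Sing m d → R) (v : Idx m d) : R := if h : 1 ≤ v.1.1 then c ⟨v, h⟩ else 0

theorem ext0_map {S : Type u} [CommRing S] (f : R →+* S) (c : Sing m d → R) (v : Idx m d) :
    f (ext0 c v) = ext0 (fun w => f (c w)) v := by
  unfold ext0
  split_ifs <;> simp

/-- An expansion without linear part is singular at its base point. -/
theorem singAt_expand (a : Fin (m + 1) → R) (c : Sing m d → R) :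
    SingAt (i₀.insertNth 1 a) (shift i₀ a (FanoLines13.expand i₀ (ext0 c))) := by
  classical
  let g : Fin (m + 2) → MvPolynomial (Fin (m + 2)) R :=
    i₀.insertNth (X i₀) fun p => X (i₀.succAbove p) - MvPolynomial.C (a p) * X i₀
  have e0 : (fun p => eval (i₀.insertNth 1 a : Fin (m + 2) → R) (g p)) = i₀.insertNth 1 fun _ => 0 := funext fun q => by
    rcases Fin.eq_self_or_eq_succAbove i₀ q with hq | ⟨p, rfl⟩
    · subst hq; simp [g]
    · simp [g]
  refine SingAt.aeval g _ ?_
  rw [e0, singAt_iff]
  refine ⟨?_, fun y => ?_⟩
  · rw [FanoLines13.eval_expand]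
    refine Finset.sum_eq_zero fun j _ => ?_
    simp only [Fin.insertNth_apply_succAbove, form, map_sum, eval_monomial, Finset.mul_sum]
    refine Finset.sum_eq_zero fun e _ => ?_
    obtain ⟨p, hp⟩ : ∃ p, e.1 p ≠ 0 := by
      by_contra! hc
      have h2 := e.2
      rw [show e.1 = 0 from Finsupp.ext hc, map_zero] at h2
      omega
    rw [Finsupp.prod, Finset.prod_eq_zero (Finsupp.mem_support_iff.2 hp) (zero_pow hp), mul_zero, mul_zero]
  · simp only [FanoLines13.expand, map_sum, Polynomial.eval_finsetSum]
    refine Finset.sum_eq_zero fun v _ => ?_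
    unfold ext0
    split_ifs with hv
    · rw [derivative_line_zero]
      refine Finset.sum_eq_zero fun q _ => ?_
      rw [pderiv_monomial, eval_monomial]
      obtain ⟨p, hp⟩ : ∃ p : Fin (m + 1), (emb i₀ v - Finsupp.single q 1 : Fin (m + 2) →₀ ℕ) (i₀.succAbove p) ≠ 0 := by
        by_contra! hc
        have hdeg := v.2.2
        rw [Finsupp.degree_eq_sum] at hdeg
        have hle : ∀ p, v.2.1 p ≤ if i₀.succAbove p = q then 1 else 0 := fun p => by
          have := hc p
          rw [Finsupp.tsub_apply, emb_succAbove, Finsupp.single_apply] at this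
          split_ifs at this ⊢ with h1 h2 h2 <;> omega
        have h1 : ∑ p, (if i₀.succAbove p = q then 1 else 0 : ℕ) ≤ 1 := by
          rw [← Finset.card_filter]
          exact Finset.card_le_one.2 fun x hx y hy => Fin.succAbove_right_injective
            ((Finset.mem_filter.1 hx).2.trans (Finset.mem_filter.1 hy).2.symm)
        have h2 := (Finset.sum_le_sum fun p _ => hle p).trans h1
        rw [hdeg] at h2
        omega
      rw [Finsupp.prod, Finset.prod_eq_zero (Finsupp.mem_support_iff.2 hp)
        (by rw [Fin.insertNth_apply_succAbove, zero_pow hp]), mul_zero, mul_zero]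
    · simp

/-- A form singular at a point of the chart is an expansion without linear part. -/
theorem exists_sing_expand (a : Fin (m + 1) → R) {P : MvPolynomial (Fin (m + 2)) R} (hP : P.IsHomogeneous d)
    (hs : SingAt (i₀.insertNth 1 a) P) : ∃ c : Sing m d → R, shift i₀ a (FanoLines13.expand i₀ (ext0 c)) = P := by
  classical
  obtain ⟨c, hc⟩ := exists_expand i₀ a hP hs.1
  refine ⟨fun w => c w.1, ?_⟩
  suffices h : ext0 (fun w : Sing m d => c w.1) = c by rw [h, hc]
  funext v
  unfold ext0
  split_ifs with hv
  · rfl
  · obtain ⟨j, e⟩ := v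
    have hj : j.1 = 0 := by simpa using hv
    have he : e.1.degree = 1 := by rw [e.2, hj]
    obtain ⟨p, hp⟩ : ∃ p, Finsupp.single p 1 = e.1 := by
      have : e.1 ∈ Set.range fun p => Finsupp.single p 1 := by rw [Finsupp.range_single_one]; exact he
      exact this
    have hs' : SingAt (i₀.insertNth 1 fun _ => 0) (FanoLines13.expand i₀ c) := by
      have h0 : FanoLines13.expand i₀ c = shift i₀ (-a) P := by
        have := shift_shift i₀ (-a) (FanoLines13.expand i₀ c)
        rw [neg_neg, hc] at this
        exact this.symm
      rw [h0]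
      refine SingAt.aeval _ _ ?_
      refine (congrArg (fun v => SingAt v P) (funext fun q => ?_)).mp hs
      rcases Fin.eq_self_or_eq_succAbove i₀ q with hq | ⟨p', rfl⟩
      · subst hq; simp
      · simp
    have := hs'.2 (i₀.succAbove p)
    rw [FanoLines13.expand, map_sum, map_sum, Finset.sum_eq_single (⟨j, e⟩ : Idx m d)] at this
    · rw [pderiv_monomial, emb_succAbove, ← hp, Finsupp.single_eq_same, Nat.cast_one, mul_one, eval_monomial] at this
      refine Eq.trans this.symm ?_
      conv_rhs => rw [← mul_one (c _)]
      refine congrArg _ ?_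
      rw [Finsupp.prod]
      refine Finset.prod_eq_one fun q hq => ?_
      rcases Fin.eq_self_or_eq_succAbove i₀ q with hq' | ⟨p', rfl⟩
      · rw [hq', Fin.insertNth_apply_same, one_pow]
      · exfalso
        rw [Finsupp.mem_support_iff, Finsupp.tsub_apply, emb_succAbove, Finsupp.single_apply] at hq
        simp only [← hp, Finsupp.single_apply, Fin.succAbove_right_inj] at hq
        split_ifs at hq <;> simp_all
    · intro v _ hne
      rw [pderiv_monomial, eval_monomial]
      by_cases hv0 : v.2.1 p = 0
      · simp [emb_succAbove, hv0]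
      · obtain ⟨p', hp'⟩ : ∃ p' : Fin (m + 1),
            (emb (m := m) (d := d) i₀ v - Finsupp.single (i₀.succAbove p) 1 : Fin (m + 2) →₀ ℕ) (i₀.succAbove p') ≠ 0 := by
          by_contra! hc'
          refine hne (emb_injective i₀ ?_)
          have hve : v.2.1 = e.1 := by
            rw [← hp]
            refine Finsupp.ext fun p' => ?_
            have := hc' p'
            rw [Finsupp.tsub_apply, emb_succAbove, Finsupp.single_apply] at this
            simp only [Fin.succAbove_right_inj] at this
            rw [Finsupp.single_apply]
            split_ifs at this ⊢ with h1 <;> first | omega | (subst h1; omega)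
          have hvj : v.1 = j := Fin.ext (by
            have h1 := v.2.2
            rw [hve, e.2] at h1
            omega)
          simp only [emb, hvj, hve]
        rw [Finsupp.prod, Finset.prod_eq_zero (Finsupp.mem_support_iff.2 hp')
          (by rw [Fin.insertNth_apply_succAbove, zero_pow hp']), mul_zero]
    · simp

end Groth.Agent.Disc13
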