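import Groth.Agent.Lib.Disc13.Chain

/-! # Systems with only the trivial zero -/

set_option autoImplicit false
set_option linter.style.haveILetI false
universe u

open MvPolynomial

noncomputable section

namespace Groth.Agent.Disc13

open Groth.Agent.FanoSeq13 Groth.Agent.ProjDeg17

attribute [local instance] MvPolynomial.gradedAlgebra

variable {k : Type u} [Field k] {n q : ℕ}

theorem isHomogeneous_span (deg : Fin q → ℕ) (g : Fin q → MvPolynomial (Fin (n + 1)) k)
    (hg : ∀ i, (g i).IsHomogeneous (deg i)) :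
    (Ideal.span (Set.range g)).IsHomogeneous (homogeneousSubmodule (Fin (n + 1)) k) :=
  Ideal.homogeneous_span _ _ (by
    rintro _ ⟨j, rfl⟩
    exact ⟨deg j, (mem_homogeneousSubmodule _ _).2 (hg j)⟩)

/-- Forms with only the trivial common zero cut out at most the number of auxiliary forms. -/
theorem dim_le_of_zeros [IsAlgClosed k] {c : ℕ} (deg : Fin q → ℕ) (g : Fin q → MvPolynomial (Fin (n + 1)) k)
    (hg : ∀ i, (g i).IsHomogeneous (deg i)) (h : Fin c → MvPolynomial (Fin (n + 1)) k)
    (hh : ∀ i, (h i).IsHomogeneous 1)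
    (hz : ∀ x : Fin (n + 1) → k, (∀ i, eval x (g i) = 0) → (∀ i, eval x (h i) = 0) → x = 0) :
    ringKrullDim (MvPolynomial (Fin (n + 1)) k ⧸ Ideal.span (Set.range g)) ≤ c := by
  refine dim_le_of_irr_le _ (isHomogeneous_span deg g hg) h (fun i => linear_mem_irr (hh i)) (Ideal.span_le.2 ?_)
  rintro _ ⟨v, rfl⟩
  show X v ∈ Ideal.radical _
  rw [← MvPolynomial.vanishingIdeal_zeroLocus_eq_radical (k := k) (K := k), mem_vanishingIdeal_iff]
  intro x hx
  rw [mem_zeroLocus_iff] at hx
  have h0 : x = 0 := hz x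
    (fun i => by simpa using hx _ (Ideal.mem_sup_left (Ideal.subset_span ⟨i, rfl⟩)))
    (fun i => by simpa using hx _ (Ideal.mem_sup_right (Ideal.subset_span ⟨i, rfl⟩)))
  simp [h0]

theorem aeval_ray {e : ℕ} {P : MvPolynomial (Fin (n + 1)) k} (hP : P.IsHomogeneous e) {K : Type u} [CommRing K]
    [Algebra k K] (v : Fin (n + 1) → K) :
    aeval (fun i => Polynomial.C (v i) * Polynomial.X) P = Polynomial.C (aeval v P) * Polynomial.X ^ e := by
  conv_lhs => rw [P.as_sum, map_sum]
  conv_rhs => rw [P.as_sum, map_sum, map_sum, Finset.sum_mul]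
  refine Finset.sum_congr rfl fun x hx => ?_
  have hdeg : ∑ i ∈ x.support, x i = e := by
    by_contra hne
    exact mem_support_iff.1 hx (hP.coeff_eq_zero hne)
  rw [aeval_monomial, aeval_monomial, map_mul, mul_assoc]
  congr 1
  rw [Finsupp.prod, Finsupp.prod, map_prod, ← hdeg, ← Finset.prod_pow_eq_pow_sum, ← Finset.prod_mul_distrib]
  exact Finset.prod_congr rfl fun i _ => by rw [mul_pow, map_pow]

/-- A system with a nontrivial zero has positive dimension. -/
theorem one_le_dim (deg : Fin q → ℕ) (g : Fin q → MvPolynomial (Fin (n + 1)) k)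
    (hg : ∀ i, (g i).IsHomogeneous (deg i)) (v : Fin (n + 1) → k) (hv : v ≠ 0) (hz : ∀ i, eval v (g i) = 0) :
    (1 : WithBot ℕ∞) ≤ ringKrullDim (MvPolynomial (Fin (n + 1)) k ⧸ Ideal.span (Set.range g)) := by
  obtain ⟨j, hj⟩ := Function.ne_iff.1 hv
  let θ : MvPolynomial (Fin (n + 1)) k →ₐ[k] Polynomial k := aeval fun i => Polynomial.C (v i) * Polynomial.X
  have hθ : Ideal.span (Set.range g) ≤ RingHom.ker θ.toRingHom := Ideal.span_le.2 (by
    rintro _ ⟨i, rfl⟩
    show θ (g i) = 0
    simp only [θ]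
    rw [aeval_ray (hg i)]
    have : aeval v (g i) = 0 := hz i
    rw [this, map_zero, zero_mul])
  have hs : Function.Surjective θ := by
    rw [← AlgHom.range_eq_top, eq_top_iff, ← Polynomial.adjoin_X, Algebra.adjoin_le_iff]
    rintro _ rfl
    refine ⟨MvPolynomial.C (v j)⁻¹ * X j, ?_⟩
    show (aeval fun i => Polynomial.C (v i) * Polynomial.X) (MvPolynomial.C (v j)⁻¹ * X j) = _
    rw [map_mul, aeval_C, aeval_X, Polynomial.algebraMap_eq, ← mul_assoc, ← map_mul]
    rw [inv_mul_cancel₀ (show v j ≠ 0 from hj), map_one, one_mul]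
  have h1 := ringKrullDim_le_of_surjective (Ideal.Quotient.lift _ θ.toRingHom hθ)
    (Ideal.Quotient.lift_surjective_of_surjective _ hθ hs)
  rw [Polynomial.ringKrullDim_of_isNoetherianRing, ringKrullDim_eq_zero_of_field, zero_add] at h1
  exact h1

open Cardinal in
/-- If a system has dimension at most one, the coordinates of a zero are algebraic over its coefficients. -/
theorem isAlgebraic_zero {F K : Type u} [Field F] [Field K] [Algebra F K] (deg : Fin q → ℕ)
    (g : Fin q → MvPolynomial (Fin (n + 1)) F) (hg : ∀ i, (g i).IsHomogeneous (deg i))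
    (hdim : ringKrullDim (MvPolynomial (Fin (n + 1)) F ⧸ Ideal.span (Set.range g)) ≤ 1)
    (v : Fin (n + 1) → K) (j : Fin (n + 1)) (hj : v j = 1) (hz : ∀ i, aeval v (g i) = 0) (i : Fin (n + 1)) :
    IsAlgebraic F (v i) := by
  classical
  let θ : MvPolynomial (Fin (n + 1)) F →ₐ[F] Polynomial K := aeval fun l => Polynomial.C (v l) * Polynomial.X
  haveI : (RingHom.ker θ.toRingHom).IsPrime := RingHom.ker_isPrime _
  have hθ : Ideal.span (Set.range g) ≤ RingHom.ker θ.toRingHom := Ideal.span_le.2 (by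
    rintro _ ⟨l, rfl⟩
    show θ (g l) = 0
    simp only [θ]
    rw [aeval_ray (hg l), hz, map_zero, zero_mul])
  have htd := tdeg_le (r := 1) hθ (by exact_mod_cast hdim)
  let w : Fin 2 → MvPolynomial (Fin (n + 1)) F := ![X j, X i]
  obtain ⟨Φ, hΦ, hΦ0⟩ : ∃ Φ : MvPolynomial (Fin 2) F, aeval w Φ ∈ RingHom.ker θ.toRingHom ∧ Φ ≠ 0 := by
    by_contra! hc
    have hind : AlgebraicIndependent F fun l => Ideal.Quotient.mkₐ F (RingHom.ker θ.toRingHom) (w l) := by
      rw [algebraicIndependent_iff]
      intro Φ hΦ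
      refine hc Φ (Ideal.Quotient.eq_zero_iff_mem.1 ?_)
      refine Eq.trans ?_ hΦ
      exact DFunLike.congr_fun (comp_aeval w (Ideal.Quotient.mkₐ F (RingHom.ker θ.toRingHom))) Φ
    have h2 := hind.lift_cardinalMk_le_trdeg
    rw [VarDim.trdeg_eq_tdeg F, Cardinal.mk_fin, Cardinal.lift_natCast, Cardinal.lift_natCast] at h2
    have : 2 ≤ 1 := le_trans (by exact_mod_cast h2) htd
    omega
  let T : MvPolynomial (Fin 2) F →ₐ[F] Polynomial K := aeval ![Polynomial.X, Polynomial.C (v i) * Polynomial.X]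
  have hT : θ.comp (aeval w) = T := algHom_ext fun l => by
    fin_cases l
    · simp [θ, w, T, hj]
    · simp [θ, w, T]
  have h0 : T Φ = 0 := by rw [← hT]; exact hΦ
  obtain ⟨e, he⟩ := ne_zero_iff.1 hΦ0
  -- the part of degree `e 0 + e 1`
  let S := Φ.support.filter fun x => x 0 + x 1 = e 0 + e 1
  let Q : Polynomial F := ∑ x ∈ S, Polynomial.monomial (x 1) (coeff x Φ)
  refine ⟨Q, fun hQ => ?_, ?_⟩
  · have h1 := congrArg (fun R => Polynomial.coeff R (e 1)) hQ
    simp only [Q, Polynomial.finsetSum_coeff, Polynomial.coeff_monomial, Polynomial.coeff_zero] at h1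
    have heS : e ∈ S := Finset.mem_filter.2 ⟨mem_support_iff.2 he, rfl⟩
    rw [Finset.sum_eq_single e (fun x hx hne => if_neg fun h => hne (Finsupp.ext fun l => ?_))
      (fun h => absurd heS h), if_pos rfl] at h1
    · exact he h1
    · have h3 := (Finset.mem_filter.1 hx).2
      fin_cases l
      · show x 0 = e 0
        omega
      · exact h
  · have h1 := congrArg (fun R => Polynomial.coeff R (e 0 + e 1)) h0
    simp only [T, Polynomial.coeff_zero] at h1
    rw [Φ.as_sum, map_sum, Polynomial.finsetSum_coeff] at h1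
    simp only [aeval_monomial, Finsupp.prod_fintype _ _ (fun l => pow_zero _), Fin.prod_univ_two,
      Matrix.cons_val_zero, Matrix.cons_val_one, Polynomial.algebraMap_apply, mul_pow, ← map_pow] at h1
    simp only [Q, map_sum, S, Finset.sum_filter]
    refine Eq.trans (Finset.sum_congr rfl fun x _ => ?_) h1
    rw [show Polynomial.C (algebraMap F K (coeff x Φ)) * (Polynomial.X ^ x 0 * (Polynomial.C (v i ^ x 1) * Polynomial.X ^ x 1)) =
      Polynomial.C (algebraMap F K (coeff x Φ) * v i ^ x 1) * Polynomial.X ^ (x 0 + x 1) by rw [map_mul, pow_add]; ring,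
      Polynomial.coeff_C_mul_X_pow]
    by_cases h : x 0 + x 1 = e 0 + e 1
    · rw [if_pos h, if_pos h.symm, Polynomial.aeval_monomial]
    · rw [if_neg h, if_neg fun h' => h h'.symm, map_zero]

end Groth.Agent.Disc13
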