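import Groth.Agent.Lib.Disc13.Univ
import Groth.Agent.Lib.FanoLines13.Main

/-! # The discriminant -/

set_option autoImplicit false
set_option linter.style.haveILetI false
universe u

open MvPolynomial Cardinal

noncomputable section

namespace Groth.Agent.Disc13

open Groth.Agent.FanoSeq13 Groth.Agent.FanoLines13

variable {k : Type u} [Field k] {m d : ℕ} (i₀ : Fin (m + 2))

theorem eqs_map' {R S : Type u} [CommRing R] [CommRing S] (f : R →+* S) (P : MvPolynomial (Fin (m + 2)) R) :
    (fun i => MvPolynomial.map f (eqs P i)) = eqs (MvPolynomial.map f P) := funext (eqs_map f P)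

/-- Evaluation of functions of a form. -/
def crd (P : MvPolynomial (Fin (m + 2)) k) (e : Expo (m + 1) d) : k := coeff e.1 P

theorem map_crd {P : MvPolynomial (Fin (m + 2)) k} (hP : P.IsHomogeneous d) :
    MvPolynomial.map (eval (crd (d := d) P)) (uform k m d) = P :=
  map_uform _ _ hP fun e => eval_X e

theorem eval_crd_chartPoly (p : Prm m d → k) (f : Coef k m d) :
    eval (crd (chartPoly i₀ p)) f = eval p (psi i₀ f) := by
  have : (eval (crd (d := d) (chartPoly i₀ p))) = (eval p).comp (psi i₀).toRingHom := by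
    refine MvPolynomial.ringHom_ext (fun a => ?_) fun e => ?_
    · simp [psi]
    · rw [eval_X]
      refine Eq.symm ((psi_X i₀ (eval p) e).trans ?_)
      simp [crd]
  exact RingHom.congr_fun this f

theorem singAt_smul {P : MvPolynomial (Fin (m + 2)) k} (hP : P.IsHomogeneous d) {v : Fin (m + 2) → k} (h : SingAt v P)
    (c : k) : SingAt (c • v) P :=
  ⟨by rw [FanoSmooth13.eval_smul_homog hP, h.1, mul_zero],
    fun q => by rw [FanoSmooth13.eval_smul_homog hP.pderiv, h.2, mul_zero]⟩

theorem eval_eq_zero_of_mem {f : Coef k m d} (hf : psi i₀ f = 0) {P : MvPolynomial (Fin (m + 2)) k}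
    (hP : P.IsHomogeneous d) {v : Fin (m + 2) → k} (hv : v i₀ ≠ 0) (h : SingAt v P) : eval (crd P) f = 0 := by
  let a : Fin (m + 1) → k := fun q => (v i₀)⁻¹ * v (i₀.succAbove q)
  have e : (v i₀)⁻¹ • v = i₀.insertNth 1 a := funext fun q => by
    rcases Fin.eq_self_or_eq_succAbove i₀ q with hq | ⟨q', rfl⟩
    · rw [hq, Fin.insertNth_apply_same, Pi.smul_apply, smul_eq_mul, inv_mul_cancel₀ hv]
    · rw [Fin.insertNth_apply_succAbove, Pi.smul_apply, smul_eq_mul]
  obtain ⟨c, hc⟩ := exists_sing_expand i₀ a hP (e ▸ singAt_smul hP h (v i₀)⁻¹)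
  have h1 : chartPoly i₀ (Sum.elim a c) = P := by rw [chartPoly]; exact hc
  rw [← h1, eval_crd_chartPoly, hf, map_zero]

/-- The kernel vanishes at all singular forms. -/
theorem eval_eq_zero_of_sing [Infinite k] {f : Coef k m d} (hf : psi i₀ f = 0) {P : MvPolynomial (Fin (m + 2)) k}
    (hP : P.IsHomogeneous d) {v : Fin (m + 2) → k} (hv : v ≠ 0) (h : SingAt v P) : eval (crd P) f = 0 := by
  classical
  by_cases h0 : v i₀ = 0
  · obtain ⟨j, hj⟩ := Function.ne_iff.1 hv
    have hji : j ≠ i₀ := fun e => hj (e ▸ h0)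
    let g : k → Fin (m + 2) → MvPolynomial (Fin (m + 2)) k := fun t q =>
      X q - MvPolynomial.C (if q = i₀ then t * (v j)⁻¹ else 0) * X j
    let gT : Fin (m + 2) → MvPolynomial (Fin (m + 2)) (Polynomial k) := fun q =>
      X q - MvPolynomial.C (if q = i₀ then Polynomial.X * Polynomial.C (v j)⁻¹ else 0) * X j
    let PT := MvPolynomial.aeval gT (MvPolynomial.map Polynomial.C P)
    let Qf : Polynomial k := MvPolynomial.aeval (fun e : Expo (m + 1) d => coeff e.1 PT) f
    have hQ : ∀ t, Polynomial.eval t Qf = eval (crd (aeval (g t) P)) f := by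
      intro t
      have e1' : ∀ Q : MvPolynomial (Fin (m + 2)) k, MvPolynomial.map (Polynomial.evalRingHom t)
          (MvPolynomial.aeval gT (MvPolynomial.map Polynomial.C Q)) = aeval (g t) Q := by
        intro Q
        induction Q using MvPolynomial.induction_on with
        | C a => simp [MvPolynomial.algebraMap_eq]
        | add p q hp hq => simp only [map_add, hp, hq]
        | mul_X p q hp =>
          simp only [map_mul, map_X, aeval_X]
          rw [hp]
          congr 1
          simp only [gT, g, map_sub, map_mul, map_C, map_X]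
          split_ifs <;> simp only [map_mul, map_zero, Polynomial.coe_evalRingHom, Polynomial.eval_X,
            Polynomial.eval_C]
      have e1 : MvPolynomial.map (Polynomial.evalRingHom t) PT = aeval (g t) P := e1' P
      suffices h' : ∀ f' : Coef k m d, Polynomial.eval t
          (MvPolynomial.aeval (fun e : Expo (m + 1) d => coeff e.1 PT) f') = eval (crd (aeval (g t) P)) f' from h' f
      intro f'
      induction f' using MvPolynomial.induction_on with
      | C a => simp [Polynomial.algebraMap_eq]
      | add p q hp hq => simp only [map_add, Polynomial.eval_add, hp, hq]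
      | mul_X p e hp =>
        rw [map_mul, map_mul, Polynomial.eval_mul, hp, aeval_X, eval_X]
        congr 1
        rw [crd, ← e1, coeff_map]
        rfl
    have hg1 : ∀ t q, (g t q).IsHomogeneous 1 := fun t q => (isHomogeneous_X _ _).sub ((isHomogeneous_X _ _).C_mul _)
    have hz : ∀ t, t ≠ 0 → Polynomial.eval t Qf = 0 := by
      intro t ht
      rw [hQ]
      let w : Fin (m + 2) → k := v + Pi.single i₀ t
      have hgw : (fun q => eval w (g t q)) = v := funext fun q => by
        simp only [g, w, map_sub, map_mul, eval_X, eval_C, Pi.add_apply, Pi.single_apply, if_neg hji, add_zero]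
        split_ifs with hq
        · subst hq
          rw [mul_assoc, inv_mul_cancel₀ (show v j ≠ 0 from hj)]
          ring
        · ring
      refine eval_eq_zero_of_mem i₀ hf ((one_mul d) ▸ hP.aeval _ (hg1 t)) (v := w) ?_ (SingAt.aeval _ _ (hgw ▸ h))
      simp [w, h0, ht]
    have hQ0 : Qf = 0 := Polynomial.eq_zero_of_infinite_isRoot _
      ((Set.infinite_univ.sdiff (Set.finite_singleton (0 : k))).mono fun t ht => hz t ht.2)
    have := hQ 0
    rw [hQ0, Polynomial.eval_zero, show g 0 = X from funext fun q => by simp [g], aeval_X_left_apply] at this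
    exact this.symm
  · exact eval_eq_zero_of_mem i₀ hf hP h0 h

/-- A nonsingular form is separated by the kernel. -/
theorem exists_mem_of_not_sing [IsAlgClosed k] {P : MvPolynomial (Fin (m + 2)) k} (hP : P.IsHomogeneous d)
    (hns : ∀ v : Fin (m + 2) → k, v ≠ 0 → ¬ SingAt v P) : ∃ f, psi i₀ f = 0 ∧ eval (crd (d := d) P) f ≠ 0 := by
  have h0 : ringKrullDim (MvPolynomial (Fin (m + 2)) k ⧸
      Ideal.span (Set.range fun i => MvPolynomial.map (eval (crd (d := d) P)) (eqs (uform k m d) i))) ≤ ((0 : ℕ) : WithBot ℕ∞) := by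
    rw [eqs_map', map_crd hP]
    refine dim_le_of_zeros (c := 0) (degs m d) _ (eqs_homog hP) Fin.elim0 (fun i => i.elim0) fun x hx _ => ?_
    by_contra hx0
    exact hns x hx0 ((eqs_zero_iff P x).1 hx)
  obtain ⟨f, hf, hf'⟩ := lift_dim (degs m d) (eqs (uform k m d)) (eqs_homog uform_homog) _ h0
  refine ⟨f, ?_, hf⟩
  by_contra hne
  let K := FractionRing (MvPolynomial (Prm m d) k)
  haveI : Infinite K := Infinite.of_injective _ (algebraMap k K).injective
  let φ : Coef k m d →+* K := (algebraMap (MvPolynomial (Prm m d) k) K).comp (psi i₀).toRingHom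
  have h1 := hf' φ fun h => hne ((map_eq_zero_iff _ (IsFractionRing.injective _ K)).1 h)
  let p : Prm m d → K := fun x => algebraMap (MvPolynomial (Prm m d) k) K (X x)
  have e : MvPolynomial.map φ (uform k m d) = chartPoly i₀ p := map_psi i₀ _
  rw [eqs_map', e] at h1
  have hv : (i₀.insertNth 1 fun q => p (Sum.inl q) : Fin (m + 2) → K) ≠ 0 := fun h => by
    have := congrFun h i₀
    simp at this
  have h2 := (one_le_dim (degs m d) _ (eqs_homog (chartPoly_homog i₀ p)) _ hv
    ((eqs_zero_iff _ _).2 (singAt_chartPoly i₀ p))).trans h1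
  have h3 : (1 : ℕ) ≤ 0 := by exact_mod_cast h2
  omega

open IntermediateField.algebraAdjoinAdjoin in
set_option synthInstance.maxHeartbeats 200000 in
theorem card_le_tdeg [IsAlgClosed k] (hd : 2 ≤ d) {K : Type u} [Field K] [Algebra k K]
    [Algebra (MvPolynomial (Prm m d) k) K] [IsScalarTower k (MvPolynomial (Prm m d) k) K]
    [IsFractionRing (MvPolynomial (Prm m d) k) K] :
    Algebra.trdeg k K ≤ (VarDim.tdeg k (Coef k m d ⧸ RingHom.ker (psi (k := k) (d := d) i₀).toRingHom) : Cardinal) := by
  classical
  haveI : Infinite K := Infinite.of_injective _ (algebraMap k K).injective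
  let ι : MvPolynomial (Prm m d) k →+* K := algebraMap _ K
  let S : Set K := Set.range fun e : Expo (m + 1) d => ι (psi i₀ (X e))
  let F := IntermediateField.adjoin k S
  haveI : Infinite F := Infinite.of_injective _ (algebraMap k F).injective
  let cF : Expo (m + 1) d → F := fun e => ⟨ι (psi i₀ (X e)), IntermediateField.subset_adjoin k _ ⟨e, rfl⟩⟩
  let τ : Coef k m d →+* F := eval₂Hom (algebraMap k F) cF
  have hτ : (algebraMap F K).comp τ = ι.comp (psi i₀).toRingHom := by
    refine MvPolynomial.ringHom_ext (fun a => ?_) fun e => ?_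
    · show algebraMap F K (τ (MvPolynomial.C a)) = ι (psi i₀ (MvPolynomial.C a))
      rw [show τ (MvPolynomial.C a) = algebraMap k F a from eval₂Hom_C _ _ a,
        ← IsScalarTower.algebraMap_apply k F K, psi, aeval_C]
      exact IsScalarTower.algebraMap_apply k (MvPolynomial (Prm m d) k) K a
    · show algebraMap F K (τ (X e)) = ι (psi i₀ (X e))
      rw [show τ (X e) = cF e from eval₂Hom_X' _ _ e]
      rfl
  let p : Prm m d → K := fun x => ι (X x)
  have e1 : MvPolynomial.map (algebraMap F K) (MvPolynomial.map τ (uform k m d)) = chartPoly i₀ p := by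
    rw [MvPolynomial.map_map, hτ]
    exact map_psi i₀ ι
  let v : Fin (m + 2) → K := i₀.insertNth 1 fun q => p (Sum.inl q)
  have hdim : ringKrullDim (MvPolynomial (Fin (m + 2)) F ⧸
      Ideal.span (Set.range fun i => MvPolynomial.map τ (eqs (uform k m d) i))) ≤ ((1 : ℕ) : WithBot ℕ∞) := by
    obtain ⟨p₀, hp₀⟩ := exists_witness (k := k) i₀ hd
    have h0 : ringKrullDim (MvPolynomial (Fin (m + 2)) k ⧸
        Ideal.span (Set.range fun i => MvPolynomial.map ((eval p₀).comp (psi i₀).toRingHom) (eqs (uform k m d) i))) ≤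
          ((1 : ℕ) : WithBot ℕ∞) := by
      rw [eqs_map', map_psi]
      rw [show (fun x => eval p₀ (X x)) = p₀ from funext fun x => eval_X x]
      exact_mod_cast hp₀
    obtain ⟨f, hf, hf'⟩ := lift_dim (degs m d) (eqs (uform k m d)) (eqs_homog uform_homog) _ h0
    refine hf' τ fun hτf => ?_
    have h1 := RingHom.congr_fun hτ f
    simp only [RingHom.comp_apply, hτf, map_zero] at h1
    have h2 : psi i₀ f = 0 := (map_eq_zero_iff ι (IsFractionRing.injective _ K)).1 h1.symm
    refine hf ?_
    show eval p₀ (psi i₀ f) = 0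
    rw [h2, map_zero]
  rw [eqs_map'] at hdim
  have hhom : (MvPolynomial.map τ (uform k m d)).IsHomogeneous d := uform_homog.map τ
  have ha : ∀ i, IsAlgebraic F (v i) := by
    refine isAlgebraic_zero (F := F) (K := K) (degs m d) _ (eqs_homog hhom)
      (by exact_mod_cast hdim) v i₀ (Fin.insertNth_apply_same ..) fun l => ?_
    rw [aeval_def, eval₂_eq_eval_map, eqs_map, e1]
    exact (eqs_zero_iff _ _).2 (singAt_chartPoly i₀ p) l
  let L := algebraicClosure F K
  have hL : ∀ i, v i ∈ L := fun i => mem_algebraicClosure_iff.2 (ha i)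
  have hp : ∀ x, p x ∈ L := by
    intro x
    rcases x with q | w
    · simpa [v] using hL (i₀.succAbove q)
    · -- the coefficient is a polynomial in the point and the coefficients of the form
      let a : Fin (m + 1) → L := fun q => ⟨p (Sum.inl q), by simpa [v] using hL (i₀.succAbove q)⟩
      let G : MvPolynomial (Fin (m + 2)) L := shift i₀ (-a) (MvPolynomial.map ((algebraMap F L).comp τ) (uform k m d))
      have hG : MvPolynomial.map L.val.toRingHom G = FanoLines13.expand i₀ (ext0 fun w => p (Sum.inr w)) := by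
        rw [shift_map, MvPolynomial.map_map, ← RingHom.comp_assoc,
          show L.val.toRingHom.comp (algebraMap F L) = algebraMap F K from rfl, ← MvPolynomial.map_map, e1]
        have := shift_shift i₀ (fun q => L.val.toRingHom ((-a) q))
          (FanoLines13.expand i₀ (ext0 fun w : Sing m d => p (Sum.inr w)))
        rw [show (-fun q => L.val.toRingHom ((-a) q)) = fun q => p (Sum.inl q) from funext fun q => by simp [a]] at this
        exact this
      have hc : coeff (emb i₀ w.1) (FanoLines13.expand i₀ (ext0 fun w => p (Sum.inr w))) = p (Sum.inr w) := by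
        rw [FanoLines13.expand, coeff_sum]
        simp only [coeff_monomial]
        rw [Finset.sum_eq_single w.1 (fun w' _ hne => if_neg fun h => hne (emb_injective i₀ h)) (by simp), if_pos rfl,
          ext0, dif_pos w.2]
      rw [← hc, ← hG, coeff_map]
      exact (coeff _ G).2
  haveI : Algebra.IsAlgebraic F K := by
    refine ⟨fun x => mem_algebraicClosure_iff.1 (?_ : x ∈ L)⟩
    have hR : ∀ y : MvPolynomial (Prm m d) k, ι y ∈ L := fun y => by
      induction y using MvPolynomial.induction_on with
      | C a =>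
        rw [show ι (MvPolynomial.C a) = algebraMap F K (algebraMap k F a) from
          (IsScalarTower.algebraMap_apply k (MvPolynomial (Prm m d) k) K a).symm]
        exact L.algebraMap_mem _
      | add a b ha hb => rw [map_add]; exact add_mem ha hb
      | mul_X a i ha => rw [map_mul]; exact mul_mem ha (hp i)
    obtain ⟨a, b, -, rfl⟩ := IsFractionRing.div_surjective (A := MvPolynomial (Prm m d) k) x
    exact div_mem (hR a) (hR b)
  rw [← trdeg_add_eq k F (A := K), trdeg_eq_zero (R := F) (A := K), add_zero,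
    ← trdeg_add_eq k (Algebra.adjoin k S) (A := F), trdeg_eq_zero (R := Algebra.adjoin k S) (A := F), add_zero]
  let B := Coef k m d ⧸ RingHom.ker (psi (k := k) (d := d) i₀).toRingHom
  haveI : (RingHom.ker (psi (k := k) (d := d) i₀).toRingHom).IsPrime := RingHom.ker_isPrime _
  let θ : Coef k m d →ₐ[k] Algebra.adjoin k S := aeval fun e => ⟨ι (psi i₀ (X e)), Algebra.subset_adjoin ⟨e, rfl⟩⟩
  have hθv : (Algebra.adjoin k S).val.comp θ = (IsScalarTower.toAlgHom k (MvPolynomial (Prm m d) k) K).comp (psi i₀) :=
    algHom_ext fun e => by simp [θ, ι]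
  have hker : ∀ f ∈ RingHom.ker (psi (k := k) (d := d) i₀).toRingHom, θ f = 0 := fun f hf => Subtype.ext (by
    have := DFunLike.congr_fun hθv f
    simp only [AlgHom.comp_apply] at this
    rw [show (psi i₀) f = 0 from hf, map_zero] at this
    exact this)
  have hθ : Function.Surjective θ := by
    rintro ⟨y, hy⟩
    have : y ∈ ((Algebra.adjoin k S).val.comp θ).range := by
      refine (Algebra.adjoin_le ?_) hy
      rintro _ ⟨e, rfl⟩
      exact ⟨X e, by simp [θ]⟩
    obtain ⟨z, hz⟩ := this
    exact ⟨z, Subtype.ext hz⟩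
  refine (trdeg_le_of_surjective (Ideal.Quotient.liftₐ _ θ hker)
    (Ideal.Quotient.lift_surjective_of_surjective _ hker hθ)).trans (le_of_eq (VarDim.trdeg_eq_tdeg k B))

/-- The kernel is generated by one irreducible element. -/
theorem exists_generator [IsAlgClosed k] (hd : 2 ≤ d) :
    ∃ Δ : Coef k m d, Irreducible Δ ∧ ∀ f, psi i₀ f = 0 ↔ Δ ∣ f := by
  classical
  let I := RingHom.ker (psi (k := k) (d := d) i₀).toRingHom
  haveI hI : I.IsPrime := RingHom.ker_isPrime _
  have hcard : Fintype.card (Prm m d) < Fintype.card (Expo (m + 1) d) := by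
    rw [card_prm (show 1 ≤ d by omega)]
    exact Groth.Agent.FanoLines13.card_expo
  have hne : I ≠ ⊥ := by
    intro h
    have hinj : Function.Injective (psi (k := k) (d := d) i₀) := (RingHom.injective_iff_ker_eq_bot _).2 h
    have h1 := trdeg_le_of_injective (psi (k := k) (d := d) i₀) hinj
    rw [MvPolynomial.trdeg_of_isDomain, MvPolynomial.trdeg_of_isDomain, Cardinal.mk_fintype, Cardinal.mk_fintype,
      Cardinal.lift_natCast, Cardinal.lift_natCast] at h1
    have : Fintype.card (Expo (m + 1) d) ≤ Fintype.card (Prm m d) := by exact_mod_cast h1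
    omega
  obtain ⟨Δ, hΔI, hΔ⟩ := hI.exists_mem_prime_of_ne_bot hne
  refine ⟨Δ, hΔ.irreducible, fun f => ?_⟩
  suffices h : I = Ideal.span {Δ} by
    rw [← Ideal.mem_span_singleton, ← h]
    exact Iff.rfl
  haveI : (Ideal.span {Δ}).IsPrime := (Ideal.span_singleton_prime hΔ.ne_zero).2 hΔ
  refine (eq_of_le_of_not_lt ((Ideal.span_singleton_le_iff_mem _).2 hΔI) fun hlt => ?_).symm
  let A := Coef k m d
  let Q0 : PrimeSpectrum A := ⟨⊥, Ideal.isPrime_bot⟩
  let Q1 : PrimeSpectrum A := ⟨Ideal.span {Δ}, inferInstance⟩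
  let Q2 : PrimeSpectrum A := ⟨I, hI⟩
  have h01 : Q0 < Q1 := (bot_lt_iff_ne_bot (α := Ideal A)).2 fun h => hΔ.ne_zero (Ideal.span_singleton_eq_bot.1 h)
  have h12 : Q1 < Q2 := hlt
  have h2 : (2 : ℕ∞) ≤ Order.height Q2 := by
    refine le_trans ?_ (Order.height_add_one_le h12)
    refine le_trans ?_ (add_le_add (Order.height_add_one_le h01) le_rfl)
    rw [show (2 : ℕ∞) = 0 + 1 + 1 by norm_num]
    exact add_le_add (add_le_add bot_le le_rfl) le_rfl
  have h3 := VarDim.height_add_coheight_nat k A Q2
  rw [VarDim.coheight_eq_tdeg k _ Q2] at h3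
  have h4 : Fintype.card (Prm m d) ≤ VarDim.tdeg k (A ⧸ I) := by
    have h := card_le_tdeg (K := FractionRing (MvPolynomial (Prm m d) k)) i₀ (k := k) hd
    haveI : Algebra.IsAlgebraic (MvPolynomial (Prm m d) k) (FractionRing (MvPolynomial (Prm m d) k)) :=
      IsLocalization.isAlgebraic _ (nonZeroDivisors _)
    rw [← trdeg_add_eq k (MvPolynomial (Prm m d) k) (A := FractionRing (MvPolynomial (Prm m d) k)),
      trdeg_eq_zero (R := MvPolynomial (Prm m d) k) (A := FractionRing (MvPolynomial (Prm m d) k)), add_zero,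
      MvPolynomial.trdeg_of_isDomain, Cardinal.mk_fintype, Cardinal.lift_natCast] at h
    exact_mod_cast h
  have h5 : VarDim.tdeg k A = Fintype.card (Expo (m + 1) d) := by
    have h := VarDim.ringKrullDim_eq_tdeg k A
    rw [MvPolynomial.ringKrullDim_of_isNoetherianRing, ringKrullDim_eq_zero_of_field, zero_add,
      Nat.card_eq_fintype_card] at h
    exact_mod_cast h.symm
  rw [h5] at h3
  have h6 := card_expo_le (m := m) (d := d)
  rw [card_prm (show 1 ≤ d by omega)] at h4
  cases hh : Order.height Q2 with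
  | top => rw [hh, top_add] at h3; exact absurd h3 (ENat.top_ne_natCast _)
  | coe a =>
    rw [hh] at h2 h3
    have h7 : a + VarDim.tdeg k (A ⧸ I) = Fintype.card (Expo (m + 1) d) := by exact_mod_cast h3
    have h8 : 2 ≤ a := by exact_mod_cast h2
    omega

end Groth.Agent.Disc13

namespace Groth.Agent.Disc13

open Groth.Agent.FanoSeq13

variable {k : Type u} [Field k] [Infinite k]

/-- Polynomial functions on forms are polynomials in the coefficients. -/
theorem exists_funEquiv (n d : ℕ) :
    ∃ π : MvPolynomial (Expo n d) k ≃ₐ[k]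
        ↥(Algebra.adjoin k (Set.range (fun l : Module.Dual k (LefPen.Form n k d) => (l : LefPen.Form n k d → k)))),
      ∀ f (G : LefPen.Form n k d), (π f).1 G = eval (fun e : Expo n d => coeff e.1 G.1) f := by
  classical
  let lf : Expo n d → Module.Dual k (LefPen.Form n k d) := fun e => (MvPolynomial.lcoeff k e.1).comp (Submodule.subtype _)
  let π : MvPolynomial (Expo n d) k →ₐ[k]
      ↥(Algebra.adjoin k (Set.range (fun l : Module.Dual k (LefPen.Form n k d) => (l : LefPen.Form n k d → k)))) :=
    aeval fun e => ⟨fun G => coeff e.1 G.1, Algebra.subset_adjoin ⟨lf e, rfl⟩⟩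
  have hπ : ∀ f (G : LefPen.Form n k d), (π f).1 G = eval (fun e : Expo n d => coeff e.1 G.1) f := fun f G => by
    induction f using MvPolynomial.induction_on with
    | C a => simp [π]
    | add p q hp hq => rw [map_add, map_add, ← hp, ← hq]; rfl
    | mul_X p e hp => rw [map_mul, map_mul, ← hp, eval_X]; simp [π]
  have hform : ∀ c : Expo n d → k, ∃ G : LefPen.Form n k d, (fun e : Expo n d => coeff e.1 G.1) = c := fun c => by
    refine ⟨⟨∑ e : Expo n d, monomial e.1 (c e), (mem_homogeneousSubmodule _ _).2
      (IsHomogeneous.sum _ _ _ fun e _ => isHomogeneous_monomial _ e.2)⟩, funext fun e => ?_⟩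
    simp only [coeff_sum, coeff_monomial]
    rw [Finset.sum_eq_single e (fun e' _ hne => if_neg fun h => hne (Subtype.ext h)) (by simp), if_pos rfl]
  have hinj : Function.Injective π := (injective_iff_map_eq_zero π).2 fun f hf => MvPolynomial.funext fun c => by
    obtain ⟨G, rfl⟩ := hform c
    rw [map_zero, ← hπ, hf]
    rfl
  have hsur : Function.Surjective π := by
    rintro ⟨g, hg⟩
    induction hg using Algebra.adjoin_induction with
    | mem g hg =>
      obtain ⟨l, rfl⟩ := hg
      refine ⟨∑ e : Expo n d, MvPolynomial.C (l ⟨monomial e.1 1, (mem_homogeneousSubmodule _ _).2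
        (isHomogeneous_monomial _ e.2)⟩) * X e, Subtype.ext (funext fun G => ?_)⟩
      rw [hπ]
      have hG : G = ∑ e : Expo n d, coeff e.1 G.1 • (⟨monomial e.1 1, (mem_homogeneousSubmodule _ _).2
          (isHomogeneous_monomial _ e.2)⟩ : LefPen.Form n k d) := by
        refine Subtype.ext ?_
        rw [Submodule.coe_sum]
        ext e
        simp only [Submodule.coe_smul, coeff_sum, coeff_smul, coeff_monomial, smul_eq_mul, mul_ite, mul_one, mul_zero]
        by_cases he : e.degree = d
        · rw [Finset.sum_eq_single ⟨e, he⟩ (fun e' _ hne => if_neg fun h => hne (Subtype.ext h)) (by simp), if_pos rfl]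
        · rw [((mem_homogeneousSubmodule _ _).1 G.2).coeff_eq_zero he]
          exact (Finset.sum_eq_zero fun e' _ => if_neg fun (h : e'.1 = e) => he (h ▸ e'.2)).symm
      simp only [map_sum, map_mul, eval_C, eval_X]
      conv_rhs => rw [hG, map_sum]
      exact Finset.sum_congr rfl fun e _ => by rw [map_smul, smul_eq_mul, mul_comm]
    | algebraMap a => exact ⟨MvPolynomial.C a, by simp [π]⟩
    | add a b _ _ ha hb =>
      obtain ⟨a', ha⟩ := ha; obtain ⟨b', hb⟩ := hb
      exact ⟨a' + b', by rw [map_add, ha, hb]; rfl⟩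
    | mul a b _ _ ha hb =>
      obtain ⟨a', ha⟩ := ha; obtain ⟨b', hb⟩ := hb
      exact ⟨a' * b', by rw [map_mul, ha, hb]; rfl⟩
  exact ⟨AlgEquiv.ofBijective π ⟨hinj, hsur⟩, hπ⟩

end Groth.Agent.Disc13
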