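import Groth.Agent.Lib.Disc13.Locus
import Groth.Agent.Lib.FanoSmooth13.Basic

/-! # The universal singular form -/

set_option autoImplicit false
set_option linter.style.haveILetI false
universe u

open MvPolynomial

noncomputable section

namespace Groth.Agent.Disc13

open Groth.Agent.FanoSeq13 Groth.Agent.FanoLines13

/-- The coefficient ring of forms. -/
abbrev Coef (k : Type u) [Field k] (m d : ℕ) : Type u := MvPolynomial (Expo (m + 1) d) k

/-- The parameters of a singular form in a chart. -/
abbrev Prm (m d : ℕ) : Type := Fin (m + 1) ⊕ Sing m d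

variable {k : Type u} [Field k] {m d : ℕ}

/-- The universal form. -/
def uform (k : Type u) [Field k] (m d : ℕ) : MvPolynomial (Fin (m + 2)) (Coef k m d) :=
  ∑ e : Expo (m + 1) d, monomial e.1 (X e)

theorem uform_homog : (uform k m d).IsHomogeneous d :=
  IsHomogeneous.sum _ _ _ fun e _ => isHomogeneous_monomial _ e.2

theorem map_uform {S : Type u} [CommRing S] (φ : Coef k m d →+* S) (P : MvPolynomial (Fin (m + 2)) S)
    (hP : P.IsHomogeneous d) (h : ∀ e : Expo (m + 1) d, φ (X e) = coeff e.1 P) :
    MvPolynomial.map φ (uform k m d) = P := by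
  classical
  ext e
  simp only [uform, map_sum, map_monomial, coeff_sum, coeff_monomial, h]
  by_cases he : e.degree = d
  · rw [Finset.sum_eq_single ⟨e, he⟩ (fun e' _ hne => if_neg fun h => hne (Subtype.ext h)) (by simp), if_pos rfl]
  · rw [hP.coeff_eq_zero he]
    exact Finset.sum_eq_zero fun e' _ => if_neg fun (h : e'.1 = e) => he (h ▸ e'.2)

variable {S : Type u} [CommRing S]

/-- The equations of the singular points. -/
def eqs (P : MvPolynomial (Fin (m + 2)) S) : Fin (m + 2 + 1) → MvPolynomial (Fin (m + 2)) S :=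
  Fin.cons P fun q => pderiv q P

/-- Their degrees. -/
def degs (m d : ℕ) : Fin (m + 2 + 1) → ℕ := Fin.cons d fun _ => d - 1

theorem eqs_homog {P : MvPolynomial (Fin (m + 2)) S} (hP : P.IsHomogeneous d) (i : Fin (m + 2 + 1)) :
    (eqs P i).IsHomogeneous (degs m d i) := by
  induction i using Fin.cases with
  | zero => exact hP
  | succ q => exact hP.pderiv

theorem eqs_map {T : Type u} [CommRing T] (f : S →+* T) (P : MvPolynomial (Fin (m + 2)) S) (i : Fin (m + 2 + 1)) :
    MvPolynomial.map f (eqs P i) = eqs (MvPolynomial.map f P) i := by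
  induction i using Fin.cases with
  | zero => rfl
  | succ q => exact (pderiv_map).symm

theorem eqs_zero_iff (P : MvPolynomial (Fin (m + 2)) S) (v : Fin (m + 2) → S) :
    (∀ i, eval v (eqs P i) = 0) ↔ SingAt v P :=
  ⟨fun h => ⟨h 0, fun q => h q.succ⟩, fun h i => by
    induction i using Fin.cases with
    | zero => exact h.1
    | succ q => exact h.2 q⟩

variable (i₀ : Fin (m + 2))

/-- The form of given parameters. -/
def chartPoly (p : Prm m d → S) : MvPolynomial (Fin (m + 2)) S :=
  shift i₀ (fun q => p (Sum.inl q)) (FanoLines13.expand i₀ (ext0 fun v => p (Sum.inr v)))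

theorem chartPoly_homog (p : Prm m d → S) : (chartPoly i₀ p).IsHomogeneous d :=
  shift_homog i₀ _ (expand_homog i₀ _)

theorem singAt_chartPoly (p : Prm m d → S) : SingAt (i₀.insertNth 1 fun q => p (Sum.inl q)) (chartPoly i₀ p) :=
  singAt_expand i₀ _ _

theorem chartPoly_map {T : Type u} [CommRing T] (f : S →+* T) (p : Prm m d → S) :
    MvPolynomial.map f (chartPoly i₀ p) = chartPoly i₀ fun x => f (p x) := by
  rw [chartPoly, shift_map, expand_map]
  simp only [chartPoly, ext0_map]

/-- The coefficients of the universal singular form. -/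
def psi : Coef k m d →ₐ[k] MvPolynomial (Prm m d) k :=
  aeval fun e => coeff e.1 (chartPoly i₀ fun x => (X x : MvPolynomial (Prm m d) k))

theorem psi_X (f : MvPolynomial (Prm m d) k →+* S) (e : Expo (m + 1) d) :
    f (psi i₀ (X e)) = coeff e.1 (chartPoly i₀ fun x => f (X x)) := by
  rw [psi, aeval_X, ← coeff_map, chartPoly_map]

theorem map_psi (f : MvPolynomial (Prm m d) k →+* S) :
    MvPolynomial.map (f.comp (psi i₀).toRingHom) (uform k m d) = chartPoly i₀ fun x => f (X x) :=
  map_uform _ _ (chartPoly_homog i₀ _) (psi_X i₀ f)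

theorem card_prm (hd : 1 ≤ d) : Fintype.card (Prm m d) = Fintype.card (Idx m d) := by
  classical
  have h : Nonempty (Fin (m + 1) ≃ {v : Idx m d // ¬ 1 ≤ v.1.1}) := by
    refine ⟨Equiv.ofBijective (fun p =>
      (⟨⟨⟨0, hd⟩, ⟨Finsupp.single p 1, Finsupp.degree_single _ _⟩⟩, by simp⟩ : {v : Idx m d // ¬ 1 ≤ v.1.1})) ⟨?_, ?_⟩⟩
    · intro p p' h
      have := congrArg (fun v : {v : Idx m d // ¬ 1 ≤ v.1.1} => v.1.2.1) h
      exact Finsupp.single_left_injective one_ne_zero this
    · rintro ⟨⟨j, e⟩, hj⟩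
      obtain rfl : j = ⟨0, hd⟩ := Fin.ext (by simpa using hj)
      obtain ⟨p, hp⟩ : ∃ p, Finsupp.single p 1 = e.1 := by
        have : e.1 ∈ Set.range fun p => Finsupp.single p 1 := by rw [Finsupp.range_single_one]; exact e.2
        exact this
      refine ⟨p, ?_⟩
      obtain rfl : e = ⟨Finsupp.single p 1, Finsupp.degree_single _ _⟩ := Subtype.ext hp.symm
      rfl
  obtain ⟨e⟩ := h
  exact Fintype.card_congr ((Equiv.sumComm _ _).trans
    ((Equiv.sumCongr (Equiv.refl _) e).trans (Equiv.sumCompl fun v : Idx m d => 1 ≤ v.1.1)))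

theorem card_expo_le : Fintype.card (Expo (m + 1) d) ≤ Fintype.card (Idx m d) + 1 := by
  classical
  rw [← Fintype.card_option]
  refine Fintype.card_le_of_surjective (fun o => o.elim ⟨Finsupp.single 0 d, Finsupp.degree_single _ _⟩
    fun v => ⟨emb 0 v, degree_emb 0 v⟩) ?_
  rintro ⟨E, hE⟩
  rcases eq_emb_or 0 E hE with rfl | ⟨v, rfl⟩
  · exact ⟨none, rfl⟩
  · exact ⟨some v, rfl⟩

/-- A form whose only singular point is the base point. -/
theorem exists_witness [IsAlgClosed k] (hd : 2 ≤ d) :
    ∃ p : Prm m d → k, ringKrullDim (MvPolynomial (Fin (m + 2)) k ⧸ Ideal.span (Set.range (eqs (chartPoly i₀ p)))) ≤ 1 := by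
  classical
  obtain ⟨f, -, ⟨F, hF⟩, hsm⟩ := Groth.Agent.FanoSmooth13.smooth_containing (k := k) (n := m) hd ⊥ (by simp)
    ⊤ (fun G => ⟨fun _ u hu => by
      rw [Submodule.mem_bot] at hu
      subst hu
      have h : G.1.IsHomogeneous d := (mem_homogeneousSubmodule _ _).1 G.2
      rw [← zero_smul k (0 : Fin (m + 1) → k), Groth.Agent.FanoSmooth13.eval_smul_homog h,
        zero_pow (by omega), zero_mul], fun _ => Submodule.mem_top⟩)
  have hsmF := hsm F hF
  have hFh : F.1.1.IsHomogeneous d := (mem_homogeneousSubmodule _ _).1 F.1.2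
  let P : MvPolynomial (Fin (m + 2)) k := rename i₀.succAbove F.1.1
  have hP : P.IsHomogeneous d := hFh.rename_isHomogeneous
  have hzero : ∀ E : Fin (m + 2) →₀ ℕ, E i₀ ≠ 0 → coeff E P = 0 := fun E hE =>
    coeff_rename_eq_zero _ _ _ fun u hu => absurd (by
      rw [← hu, Finsupp.mapDomain_of_notMem_range _ _ (by rintro ⟨p, hp⟩; exact Fin.succAbove_ne i₀ p hp)]) hE
  let p : Prm m d → k := Sum.elim (fun _ => 0) fun v => coeff (emb i₀ v.1) P
  have hp : chartPoly i₀ p = P := by
    have h1 : FanoLines13.expand i₀ (ext0 fun v => p (Sum.inr v)) = P := by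
      rw [← expand_coeff i₀ P hP (hzero _ (by rw [Finsupp.single_eq_same]; omega))]
      congr 1
      funext v
      unfold ext0
      split_ifs with hv
      · rfl
      · refine (hzero _ ?_).symm
        rw [emb, Finsupp.add_apply, Finsupp.single_eq_same]
        omega
    rw [chartPoly, h1]
    have h2 : shift i₀ (fun q => p (Sum.inl q)) = AlgHom.id k _ := algHom_ext fun q => by
      rcases Fin.eq_self_or_eq_succAbove i₀ q with hq | ⟨q', rfl⟩
      · subst hq; simp [shift]
      · simp [shift, p]
    rw [h2]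
    rfl
  refine ⟨p, ?_⟩
  rw [hp]
  refine dim_le_of_zeros (c := 1) (degs m d) _ (eqs_homog hP) (fun _ => X i₀) (fun _ => isHomogeneous_X _ _)
    fun x hx hxh => ?_
  have h0 : x i₀ = 0 := by simpa using hxh 0
  have hs := (eqs_zero_iff P x).1 hx
  have hy : (fun q => x (i₀.succAbove q)) = 0 := by
    by_contra hy
    obtain ⟨q, hq⟩ := hsmF _ hy (by
      have := hs.1
      simpa [P, eval_rename, Function.comp_def] using this)
    refine hq ?_
    have := hs.2 (i₀.succAbove q)
    simpa [P, pderiv_rename (Fin.succAbove_right_injective (p := i₀)), eval_rename, Function.comp_def] using this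
  funext q
  rcases Fin.eq_self_or_eq_succAbove i₀ q with rfl | ⟨q', rfl⟩
  · exact h0
  · exact congrFun hy q'

end Groth.Agent.Disc13
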